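import Groth.Agent.ResProp.K90.RelGen
import Groth.Agent.AlgSt.K739.Alg
import Groth.Agent.AlgSt.K739.Sect
import Groth.Agent.S12763
import Groth.Agent.S12982
import Groth.Agent.S12983
import Groth.Agent.S12986

/-!
# The standing convention (diagonals separated and quasi-compact) and the formal rows

* `diag_any` : under the convention every diagonal is separated and quasi-compact, so every morphism is quasi-separated;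
* `diag_toSelf_fp` : fibre products keep the convention;
* `Comp16` : the composition statement (row S17316) as a proposition;
* `cancel` (row S17318) and `square` (row S17319) from `Comp16`.
-/

set_option autoImplicit false
set_option backward.isDefEq.respectTransparency false
set_option backward.isDefEq.respectTransparency.types false

universe u

open CategoryTheory CategoryTheory.Limits AlgebraicGeometry StMod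

namespace K90.Conv

open K739.DiagComp K739.Props K739.Rep K735.Fib K735.Fp K90.GenInv K90.RelGen

variable {S : Scheme.{u}}

/-- Separated and quasi-compact. -/
abbrev SQ (S : Scheme.{u}) : MorphismProperty (AlgSp.Sp S) := AlgSp.IsSeparatedMor ⊓ AlgSp.IsQuasiCompactMor

theorem bc_sq : BC (SQ S) := bc_inf bc_sep bc_qc

theorem comp_sq : Comp (SQ S) := comp_inf comp_sep comp_qc

theorem fppfDesc_sq : FppfDesc (SQ S) := fppfDesc_sep.inf fppfDesc_qc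

theorem cancel_sq : Cancel (SQ S) (SQ S) (SQ S) := fun _ _ _ h₁ h₂ h₃ a b hab hb =>
  ⟨cancel_sep AlgSp.IsSeparatedMor h₁ h₂ h₃ a b hab.1 hb.1, cancel_qc h₁ h₂ h₃ a b hab.2 (qs_of_sep hb.1)⟩

theorem isoInv_sq : IsoInv (SQ S) := isoInv_of_baseChange _ bc_sq

variable {𝒳 𝒴 𝒵 : AlgSt.Cat S}

/-- Under the convention every diagonal is separated and quasi-compact. -/
theorem diag_any (h𝒳 : AlgSt.IsAlgStack Scheme.fppfPrecoverage 𝒳) (h𝒴 : AlgSt.IsAlgStack Scheme.fppfPrecoverage 𝒴)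
    (hΔ𝒳 : AlgSt.RepByAlgSpWith (SQ S) (FibCat.diag (FibCat.toSelf 𝒳)))
    (hΔ𝒴 : AlgSt.RepByAlgSpWith (SQ S) (FibCat.diag (FibCat.toSelf 𝒴))) (f : 𝒳 ⥤ᵇ 𝒴) :
    AlgSt.RepByAlgSpWith (SQ S) (FibCat.diag f) :=
  K739.Alg.repByAlgSpWith_diag_of_toSelf isoInv_sq isoInv_sq bc_sq cancel_sq h𝒳.isStack.1 h𝒴.isStack.1 f hΔ𝒳 hΔ𝒴

theorem isQuasiSeparatedMor_of_diag {f : 𝒳 ⥤ᵇ 𝒴} (h : AlgSt.RepByAlgSpWith (SQ S) (FibCat.diag f)) :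
    AlgSt.IsQuasiSeparatedMor f :=
  K739.Alg.repByAlgSpWith_mono (fun _ _ _ h => ⟨h.2, qs_of_sep h.1⟩) h

/-- Fibre products of algebraic stacks satisfying the convention satisfy it. -/
theorem diag_toSelf_fp (h𝒳 : AlgSt.IsAlgStack Scheme.fppfPrecoverage 𝒳)
    (h𝒴 : AlgSt.IsAlgStack Scheme.fppfPrecoverage 𝒴) (h𝒵 : AlgSt.IsAlgStack Scheme.fppfPrecoverage 𝒵)
    (hΔ𝒳 : AlgSt.RepByAlgSpWith (SQ S) (FibCat.diag (FibCat.toSelf 𝒳)))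
    (hΔ𝒴 : AlgSt.RepByAlgSpWith (SQ S) (FibCat.diag (FibCat.toSelf 𝒴)))
    (hΔ𝒵 : AlgSt.RepByAlgSpWith (SQ S) (FibCat.diag (FibCat.toSelf 𝒵))) (a : 𝒳 ⥤ᵇ 𝒵) (b : 𝒴 ⥤ᵇ 𝒵) :
    AlgSt.RepByAlgSpWith (SQ S) (FibCat.diag (FibCat.toSelf (FibCat.fp a b))) := by
  have hP := isFibGrpd_fp h𝒳.isStack.1 h𝒴.isStack.1 h𝒵.isStack.1 a b
  have h1 : AlgSt.RepByAlgSpWith (SQ S) (FibCat.diag (FibCat.fpFst a b)) :=
    K739.Sect.repByAlgSpWith_diag_fpFst a b h𝒴.isStack.1 h𝒵.isStack.1 h𝒳.isStack.1 hP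
      (diag_any h𝒴 h𝒵 hΔ𝒴 hΔ𝒵 b)
  exact repByAlgSpWith_diag_comp hP h𝒳.isStack.1 isFibGrpd_selfOver (FibCat.fpFst a b) (FibCat.toSelf 𝒳)
    bc_sq comp_sq fppfDesc_sq.etDesc h1 hΔ𝒳

/-- The inverse image of a module of finite presentation is of finite presentation. -/
theorem isFinPres_comap (f : 𝒳 ⥤ᵇ 𝒴) {F : Mod 𝒴} (h : F.IsFinPres) : (Mod.comap f F).IsFinPres := by
  intro x
  have key : ∀ {X T : Scheme.{u}} (e : X = T) (M : X.Modules), SheafOfModules.IsFinitePresentation (R := X.ringCatSheaf) M →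
      SheafOfModules.IsFinitePresentation (R := T.ringCatSheaf) (castMod e M) := by
    intro X T e M hM; subst e; exact hM
  exact key _ _ (h (f.obj x))

/-- The composition statement (row S17316). -/
def Comp16 (S : Scheme.{u}) : Prop :=
  ∀ (𝒳 𝒴 𝒵 : AlgSt.Cat S)
    (_ : AlgSt.IsAlgStack Scheme.fppfPrecoverage 𝒳) (_ : AlgSt.IsAlgStack Scheme.fppfPrecoverage 𝒴)
    (_ : AlgSt.IsAlgStack Scheme.fppfPrecoverage 𝒵)
    (_ : AlgSt.RepByAlgSpWith (AlgSp.IsSeparatedMor ⊓ AlgSp.IsQuasiCompactMor) (FibCat.diag (FibCat.toSelf 𝒳)))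
    (_ : AlgSt.RepByAlgSpWith (AlgSp.IsSeparatedMor ⊓ AlgSp.IsQuasiCompactMor) (FibCat.diag (FibCat.toSelf 𝒴)))
    (_ : AlgSt.RepByAlgSpWith (AlgSp.IsSeparatedMor ⊓ AlgSp.IsQuasiCompactMor) (FibCat.diag (FibCat.toSelf 𝒵)))
    (f : 𝒳 ⥤ᵇ 𝒴) (_ : AlgSt.IsQuasiCompactMor Scheme.fppfPrecoverage f) (_ : AlgSt.IsQuasiSeparatedMor f)
    (g : 𝒴 ⥤ᵇ 𝒵) (_ : AlgSt.IsQuasiCompactMor Scheme.fppfPrecoverage g) (_ : AlgSt.IsQuasiSeparatedMor g)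
    {ι : Type u} (F : ι → StMod.QCoh 𝒴) (_ : ∀ j, (F j).obj.IsFinPres)
    (_ : StMod.IsRelGenFam f (fun _ : PUnit.{u + 1} => StMod.OQ 𝒳)) (_ : StMod.IsRelGenFam g F),
    StMod.IsRelGenFam (BasedFunctor.comp f g) (fun j => (StMod.comapQ f).obj (F j))

/-- Cancellation (row S17318) from the composition statement. -/
theorem cancel (H : Comp16 S)
    (h𝒳 : AlgSt.IsAlgStack Scheme.fppfPrecoverage 𝒳) (h𝒴 : AlgSt.IsAlgStack Scheme.fppfPrecoverage 𝒴)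
    (h𝒵 : AlgSt.IsAlgStack Scheme.fppfPrecoverage 𝒵)
    (hΔ𝒳 : AlgSt.RepByAlgSpWith (SQ S) (FibCat.diag (FibCat.toSelf 𝒳)))
    (hΔ𝒴 : AlgSt.RepByAlgSpWith (SQ S) (FibCat.diag (FibCat.toSelf 𝒴)))
    (hΔ𝒵 : AlgSt.RepByAlgSpWith (SQ S) (FibCat.diag (FibCat.toSelf 𝒵)))
    (f : 𝒳 ⥤ᵇ 𝒴) (hfqc : AlgSt.IsQuasiCompactMor Scheme.fppfPrecoverage f)
    (g : 𝒴 ⥤ᵇ 𝒵) (hgqc : AlgSt.IsQuasiCompactMor Scheme.fppfPrecoverage g)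
    {ι : Type u} (E : ι → StMod.QCoh 𝒳) (hE : ∀ i, (E i).obj.IsFinPres)
    (hh : StMod.IsRelGenFam (BasedFunctor.comp f g) E)
    (hO : StMod.IsRelGenFam (FibCat.diag g) (fun _ : PUnit.{u + 1} => StMod.OQ 𝒴)) :
    StMod.IsRelGenFam f E := by
  have hP : AlgSt.IsAlgStack Scheme.fppfPrecoverage (FibCat.fp g (BasedFunctor.comp f g)) :=
    Groth.Agent.S12763.result h𝒵.isStack h𝒵.diag h𝒴 h𝒳 g (BasedFunctor.comp f g)
  have hΔP := diag_toSelf_fp h𝒴 h𝒳 h𝒵 hΔ𝒴 hΔ𝒳 hΔ𝒵 g (BasedFunctor.comp f g)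
  have hfgqc : AlgSt.IsQuasiCompactMor Scheme.fppfPrecoverage (BasedFunctor.comp f g) :=
    Groth.Agent.S12983.result S 𝒳 𝒴 𝒵 h𝒳 h𝒴 h𝒵 f g hfqc hgqc
  have hpqc : AlgSt.IsQuasiCompactMor Scheme.fppfPrecoverage (FibCat.fpFst g (BasedFunctor.comp f g)) :=
    Groth.Agent.S12982.result S 𝒳 𝒵 𝒴 h𝒳 h𝒵 h𝒴 (BasedFunctor.comp f g) g hfgqc
  have hpqs := isQuasiSeparatedMor_of_diag (diag_any hP h𝒴 hΔP hΔ𝒴 (FibCat.fpFst g (BasedFunctor.comp f g)))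
  have hγqs := isQuasiSeparatedMor_of_diag (diag_any h𝒳 hP hΔ𝒳 hΔP (graph f g))
  have hγqc : AlgSt.IsQuasiCompactMor Scheme.fppfPrecoverage (graph f g) :=
    Groth.Agent.S12986.result S 𝒳 _ 𝒴 h𝒳 hP h𝒴 (graph f g) (FibCat.fpFst g (BasedFunctor.comp f g)) hfqc hpqs
  refine isRelGenFam_of_comp f g h𝒳.isStack.1 h𝒴.isStack.1 h𝒵.isStack.1 hO hh fun h1 h2 => ?_
  exact H 𝒳 _ 𝒴 h𝒳 hP h𝒴 hΔ𝒳 hΔP hΔ𝒴 (graph f g) hγqc hγqs (FibCat.fpFst g (BasedFunctor.comp f g)) hpqc hpqs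
    (fun i => (comapQ (FibCat.fpSnd g (BasedFunctor.comp f g))).obj (E i)) (fun i => isFinPres_comap _ (hE i)) h1 h2

/-- Row S17319 from the composition statement. -/
theorem square (H : Comp16 S) {𝒰 𝒱 : AlgSt.Cat S}
    (h𝒰 : AlgSt.IsAlgStack Scheme.fppfPrecoverage 𝒰) (h𝒳 : AlgSt.IsAlgStack Scheme.fppfPrecoverage 𝒳)
    (h𝒱 : AlgSt.IsAlgStack Scheme.fppfPrecoverage 𝒱) (h𝒴 : AlgSt.IsAlgStack Scheme.fppfPrecoverage 𝒴)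
    (hΔ𝒰 : AlgSt.RepByAlgSpWith (SQ S) (FibCat.diag (FibCat.toSelf 𝒰)))
    (hΔ𝒳 : AlgSt.RepByAlgSpWith (SQ S) (FibCat.diag (FibCat.toSelf 𝒳)))
    (hΔ𝒱 : AlgSt.RepByAlgSpWith (SQ S) (FibCat.diag (FibCat.toSelf 𝒱)))
    (hΔ𝒴 : AlgSt.RepByAlgSpWith (SQ S) (FibCat.diag (FibCat.toSelf 𝒴)))
    (u : 𝒰 ⥤ᵇ 𝒳) (huqc : AlgSt.IsQuasiCompactMor Scheme.fppfPrecoverage u) (huqs : AlgSt.IsQuasiSeparatedMor u)
    (f : 𝒳 ⥤ᵇ 𝒴) (hfqc : AlgSt.IsQuasiCompactMor Scheme.fppfPrecoverage f) (hfqs : AlgSt.IsQuasiSeparatedMor f)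
    (g : 𝒰 ⥤ᵇ 𝒱) (hgqc : AlgSt.IsQuasiCompactMor Scheme.fppfPrecoverage g)
    (v : 𝒱 ⥤ᵇ 𝒴) (hvqc : AlgSt.IsQuasiCompactMor Scheme.fppfPrecoverage v)
    (e : BasedFunctor.comp u f ≅ BasedFunctor.comp g v)
    {ι : Type u} (E : ι → StMod.QCoh 𝒳) (hE : ∀ i, (E i).obj.IsFinPres)
    (hEf : StMod.IsRelGenFam f E)
    (hOu : StMod.IsRelGenFam u (fun _ : PUnit.{u + 1} => StMod.OQ 𝒰))
    (hOv : StMod.IsRelGenFam (FibCat.diag v) (fun _ : PUnit.{u + 1} => StMod.OQ 𝒱)) :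
    StMod.IsRelGenFam g (fun i => (StMod.comapQ u).obj (E i)) :=
  cancel H h𝒰 h𝒱 h𝒴 hΔ𝒰 hΔ𝒱 hΔ𝒴 g hgqc v hvqc _ (fun i => isFinPres_comap u (hE i))
    (isRelGenFam_of_iso e (H 𝒰 𝒳 𝒴 h𝒰 h𝒳 h𝒴 hΔ𝒰 hΔ𝒳 hΔ𝒴 u huqc huqs f hfqc hfqs E hE hOu hEf)) hOv

end K90.Conv
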