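import Groth.Prelude.Def_StMod6
import Groth.Agent.AlgSt.K735.Fib

/-!
# Inverse images along isomorphic functors, and invariance of generating families

* `comapNat e F : comap g F ⟶ comap f F` for a 2-morphism `e : f ⟶ g` over the base, functorial in `e` and `F`;
* `comapCongr e F : comap f F ≅ comap g F`;
* `isGenFam_congr` : generating families are invariant under isomorphisms of the members;
* `isGenFam_comapQ` : if `Φ` is an equivalence over the base then `Φ^* E` is generating as soon as `E` is.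
-/

set_option autoImplicit false
set_option backward.isDefEq.respectTransparency false
set_option backward.isDefEq.respectTransparency.types false

universe t w'' v'' w' v' w v u

open CategoryTheory CategoryTheory.Limits AlgebraicGeometry StMod Opposite TopologicalSpace

namespace K90.GenInv

open K735.Fib

variable {S : Scheme.{u}}

section Cast

variable {X Y T X' Y' T' : Scheme.{u}}

/-- Transport of a comparison datum along a morphism which is an identity after the two readings. -/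
noncomputable def castId (hX : X = T) (hY : Y = T) {b : Y ⟶ X} (hb : b ≫ eqToHom hX = eqToHom hY)
    {M : X.Modules} {N : Y.Modules} (m : M ⟶ (Scheme.Modules.pushforward b).obj N) :
    castMod hX M ⟶ castMod hY N :=
  castMap hX hY (g := 𝟙 T) (by simpa using hb) m ≫ (Scheme.Modules.pushforwardId T).hom.app _

theorem castId_nat (hX : X = T) (hY : Y = T) {b : Y ⟶ X} (hb : b ≫ eqToHom hX = eqToHom hY)
    {M M' : X.Modules} {N N' : Y.Modules} (m : M ⟶ (Scheme.Modules.pushforward b).obj N)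
    (m' : M' ⟶ (Scheme.Modules.pushforward b).obj N') (a : M ⟶ M') (c : N ⟶ N')
    (h : m ≫ (Scheme.Modules.pushforward b).map c = a ≫ m') :
    castId hX hY hb m ≫ castHom hY c = castHom hX a ≫ castId hX hY hb m' := by
  subst hX hY
  obtain rfl : b = 𝟙 _ := by simpa using hb
  simp only [castId, castMap_rfl_self, castHom_rfl]
  rw [← Category.assoc, ← h]
  simp only [Category.assoc]
  exact congrArg (m ≫ ·) ((Scheme.Modules.pushforwardId _).hom.naturality c).symm

theorem castId_id (hX : X = T) {b : X ⟶ X} (hb : b ≫ eqToHom hX = eqToHom hX) {M : X.Modules}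
    (m : M ⟶ (Scheme.Modules.pushforward b).obj M) (e : b = 𝟙 X)
    (hm : m ≫ (Scheme.Modules.pushforwardCongr e).hom.app M ≫ (Scheme.Modules.pushforwardId X).hom.app M = 𝟙 M) :
    castId hX hX hb m = 𝟙 _ :=
  castMap_unit hX _ m e hm

/-- Sections of the comparison of pushforwards along equal morphisms, when the two preimages are definitionally
equal. -/
theorem map_eqToHom_self {Z : Scheme.{u}} (P : Z.Modules) {V : Z.Opens} (e : V = V) (x : Γ(P, V)) :
    P.presheaf.map (eqToHom e).op x = x := by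
  rw [eqToHom_refl, op_id, P.presheaf.map_id]
  rfl

theorem comp_castId {X X' Y' T T' : Scheme.{u}} (hX : X = T) (hX' : X' = T') (hY' : Y' = T') {a : X' ⟶ X} {k : T' ⟶ T}
    (ha : a ≫ eqToHom hX = eqToHom hX' ≫ k) {b : Y' ⟶ X'} (hb : b ≫ eqToHom hX' = eqToHom hY')
    {c : Y' ⟶ X} (hc : c ≫ eqToHom hX = eqToHom hY' ≫ k)
    {M : X.Modules} {N : X'.Modules} {P : Y'.Modules} (m : M ⟶ (Scheme.Modules.pushforward a).obj N)
    (n : N ⟶ (Scheme.Modules.pushforward b).obj P) (p : M ⟶ (Scheme.Modules.pushforward c).obj P)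
    (hp : ∀ e : c = b ≫ a, p ≫ (Scheme.Modules.pushforwardCongr e).hom.app P =
      m ≫ (Scheme.Modules.pushforward a).map n ≫ (Scheme.Modules.pushforwardComp b a).hom.app P) :
    castMap hX hX' ha m ≫ (Scheme.Modules.pushforward k).map (castId hX' hY' hb n) = castMap hX hY' hc p := by
  subst hX hX' hY'
  obtain rfl : a = k := by simpa using ha
  obtain rfl : b = 𝟙 _ := by simpa using hb
  obtain rfl : c = a := by simpa using hc
  have h := hp (by simp)
  rw [castMap_rfl_self, castMap_rfl_self]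
  apply Scheme.Modules.hom_ext
  intro U
  ext x
  have h2 : (p ≫ (Scheme.Modules.pushforwardCongr (by simp : c = 𝟙 _ ≫ c)).hom.app P).app U x =
    (m ≫ (Scheme.Modules.pushforward c).map n ≫ (Scheme.Modules.pushforwardComp (𝟙 _) c).hom.app P).app U x := by
    rw [h]
  simp only [Scheme.Modules.Hom.comp_app, Scheme.Modules.pushforwardComp_hom_app_app,
    Scheme.Modules.pushforward_map_app, Scheme.Modules.pushforwardCongr_hom_app_app,
    castId, castMap_rfl_self,
    Scheme.Modules.pushforwardId_hom_app_app, Category.comp_id] at h2 ⊢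
  exact h2.symm.trans (map_eqToHom_self P (V := c ⁻¹ᵁ U) rfl (p.app U x))

theorem castId_comp_castMap {X Y Y' T T' : Scheme.{u}} (hX : X = T) (hY : Y = T) (hY' : Y' = T') {b : Y ⟶ X}
    {k : T' ⟶ T} (hb : b ≫ eqToHom hX = eqToHom hY) {a : Y' ⟶ Y} (ha : a ≫ eqToHom hY = eqToHom hY' ≫ k)
    {c : Y' ⟶ X} (hc : c ≫ eqToHom hX = eqToHom hY' ≫ k)
    {M : X.Modules} {N : Y.Modules} {P : Y'.Modules} (n : M ⟶ (Scheme.Modules.pushforward b).obj N)
    (m : N ⟶ (Scheme.Modules.pushforward a).obj P) (p : M ⟶ (Scheme.Modules.pushforward c).obj P)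
    (hp : ∀ e : c = a ≫ b, p ≫ (Scheme.Modules.pushforwardCongr e).hom.app P =
      n ≫ (Scheme.Modules.pushforward b).map m ≫ (Scheme.Modules.pushforwardComp a b).hom.app P) :
    castId hX hY hb n ≫ castMap hY hY' ha m = castMap hX hY' hc p := by
  subst hX hY hY'
  obtain rfl : a = k := by simpa using ha
  obtain rfl : b = 𝟙 _ := by simpa using hb
  obtain rfl : c = a := by simpa using hc
  have h := hp (by simp)
  rw [castMap_rfl_self, castMap_rfl_self]
  apply Scheme.Modules.hom_ext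
  intro U
  ext x
  have h2 : (p ≫ (Scheme.Modules.pushforwardCongr (by simp : c = c ≫ 𝟙 _)).hom.app P).app U x =
    (n ≫ (Scheme.Modules.pushforward (𝟙 _)).map m ≫ (Scheme.Modules.pushforwardComp c (𝟙 _)).hom.app P).app U x := by
    rw [h]
  simp only [Scheme.Modules.Hom.comp_app, Scheme.Modules.pushforwardComp_hom_app_app,
    Scheme.Modules.pushforward_map_app, Scheme.Modules.pushforwardCongr_hom_app_app,
    castId, castMap_rfl_self,
    Scheme.Modules.pushforwardId_hom_app_app, Category.comp_id] at h2 ⊢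
  exact h2.symm.trans (map_eqToHom_self P (V := c ⁻¹ᵁ U) rfl (p.app U x))

theorem castId_comp {X Y Z T : Scheme.{u}} (hX : X = T) (hY : Y = T) (hZ : Z = T) {b : Y ⟶ X} {c : Z ⟶ Y}
    (hb : b ≫ eqToHom hX = eqToHom hY) (hc : c ≫ eqToHom hY = eqToHom hZ) {M : X.Modules} {N : Y.Modules}
    {P : Z.Modules} (m : M ⟶ (Scheme.Modules.pushforward b).obj N) (n : N ⟶ (Scheme.Modules.pushforward c).obj P)
    {a : Z ⟶ X} (ha : a ≫ eqToHom hX = eqToHom hZ) (p : M ⟶ (Scheme.Modules.pushforward a).obj P)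
    (hp : ∀ e : a = c ≫ b, p ≫ (Scheme.Modules.pushforwardCongr e).hom.app P =
      m ≫ (Scheme.Modules.pushforward b).map n ≫ (Scheme.Modules.pushforwardComp c b).hom.app P) :
    castId hX hY hb m ≫ castId hY hZ hc n = castId hX hZ ha p := by
  have h := castId_comp_castMap hX hY hZ hb (k := 𝟙 _) (by simpa using hc) (by simpa using ha) m n p hp
  change castId hX hY hb m ≫ (castMap hY hZ _ n ≫ (Scheme.Modules.pushforwardId T).hom.app _) =
    castMap hX hZ _ p ≫ (Scheme.Modules.pushforwardId T).hom.app _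
  rw [← Category.assoc, h]


end Cast

section Nat

variable {𝒳 : BasedCategory.{v, w} (Over S)} {𝒴 : BasedCategory.{v', w'} (Over S)}

theorem bmap_app {f g : 𝒴 ⥤ᵇ 𝒳} (θ : f ⟶ g) (y : 𝒴.obj) :
    bmap 𝒳 (θ.toNatTrans.app y) ≫ eqToHom (sch_obj_eq g y) = eqToHom (sch_obj_eq f y) := by
  have h := congrArg (fun k => k.left) (vert_app θ y).map_eq
  simp only [Over.eqToHom_left] at h
  change (𝒳.p.map (θ.toNatTrans.app y)).left ≫ _ = _
  rw [h, eqToHom_trans]

/-- The morphism of inverse images along a 2-morphism over the base. -/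
noncomputable def comapNat {f g : 𝒴 ⥤ᵇ 𝒳} (θ : f ⟶ g) (F : Mod 𝒳) : Mod.comap g F ⟶ Mod.comap f F where
  app y := castId (sch_obj_eq g y) (sch_obj_eq f y) (bmap_app θ y) (F.map (θ.toNatTrans.app y) rfl)
  comm {y' y} φ k hk := by
    have hn : f.map φ ≫ θ.toNatTrans.app y = θ.toNatTrans.app y' ≫ g.map φ := θ.toNatTrans.naturality φ
    rw [Mod.comap_map, Mod.comap_map]
    have hc : bmap 𝒳 (f.map φ ≫ θ.toNatTrans.app y) ≫ eqToHom (sch_obj_eq g y) =
        eqToHom (sch_obj_eq f y') ≫ k := by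
      rw [bmap_comp, Category.assoc, bmap_app]
      exact bmap_map_comm f φ hk
    rw [comp_castId _ _ (sch_obj_eq f y') _ (bmap_app θ y') hc _ _ (F.map (f.map φ ≫ θ.toNatTrans.app y) rfl),
      castId_comp_castMap _ _ _ _ _ hc _ _ (F.map (f.map φ ≫ θ.toNatTrans.app y) rfl)]
    · intro e
      rw [Mod.map_comp_pushforwardCongr]
      exact F.map_comp (f.map φ) (θ.toNatTrans.app y) rfl rfl
    · intro e
      rw [Mod.map_comp_pushforwardCongr, F.map_congr hn]
      exact F.map_comp (θ.toNatTrans.app y') (g.map φ) rfl rfl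

theorem comapNat_app {f g : 𝒴 ⥤ᵇ 𝒳} (θ : f ⟶ g) (F : Mod 𝒳) (y : 𝒴.obj) :
    (comapNat θ F).app y =
      castId (sch_obj_eq g y) (sch_obj_eq f y) (bmap_app θ y) (F.map (θ.toNatTrans.app y) rfl) := rfl

theorem comapNat_id (f : 𝒴 ⥤ᵇ 𝒳) (F : Mod 𝒳) : comapNat (𝟙 f) F = 𝟙 _ := by
  apply Mod.hom_ext
  intro y
  rw [comapNat_app]
  refine castId_id _ _ _ (bmap_id (f.obj y)) ?_
  rw [← Category.assoc, Mod.map_comp_pushforwardCongr]
  exact F.map_id (f.obj y)

theorem comapNat_comp {f g h : 𝒴 ⥤ᵇ 𝒳} (θ : f ⟶ g) (θ' : g ⟶ h) (F : Mod 𝒳) :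
    comapNat (θ ≫ θ') F = comapNat θ' F ≫ comapNat θ F := by
  apply Mod.hom_ext
  intro y
  rw [Mod.comp_app, comapNat_app, comapNat_app, comapNat_app]
  refine (castId_comp _ _ _ _ _ _ _ _ _ (fun e => ?_)).symm
  rw [Mod.map_comp_pushforwardCongr]
  exact F.map_comp (θ.toNatTrans.app y) (θ'.toNatTrans.app y) rfl rfl

/-- Naturality in the module. -/
theorem comapNat_nat {f g : 𝒴 ⥤ᵇ 𝒳} (θ : f ⟶ g) {F G : Mod 𝒳} (u : F ⟶ G) :
    comapNat θ F ≫ Mod.comapMap f u = Mod.comapMap g u ≫ comapNat θ G := by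
  apply Mod.hom_ext
  intro y
  exact castId_nat _ _ (bmap_app θ y) _ _ _ _ (u.comm (θ.toNatTrans.app y) rfl)

/-- Inverse images along isomorphic functors over the base are isomorphic. -/
noncomputable def comapCongr {f g : 𝒴 ⥤ᵇ 𝒳} (e : f ≅ g) (F : Mod 𝒳) : Mod.comap g F ≅ Mod.comap f F where
  hom := comapNat e.hom F
  inv := comapNat e.inv F
  hom_inv_id := by rw [← comapNat_comp, e.inv_hom_id, comapNat_id]
  inv_hom_id := by rw [← comapNat_comp, e.hom_inv_id, comapNat_id]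

end Nat

section NatIso

variable {𝒳 : BasedCategory.{v, w} (Over S)} {𝒴 : BasedCategory.{v', w'} (Over S)}
  {𝒵 : BasedCategory.{v'', w''} (Over S)}

theorem comapCompIso_nat (f : 𝒴 ⥤ᵇ 𝒳) (g : 𝒵 ⥤ᵇ 𝒴) {F G : Mod 𝒳} (u : F ⟶ G) :
    Mod.comapMap (BasedFunctor.comp g f) u ≫ (comapCompIso f g G).hom =
      (comapCompIso f g F).hom ≫ Mod.comapMap g (Mod.comapMap f u) := by
  apply Mod.hom_ext
  intro z
  have h : ∀ {X T T' : Scheme.{u}} (h : X = T) (h' : T = T') {M N : X.Modules} (a : M ⟶ N),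
      castHom (h.trans h') a ≫ eqToHom (castMod_trans h h' N).symm =
        eqToHom (castMod_trans h h' M).symm ≫ castHom h' (castHom h a) := by
    intro X T T' h h' M N a
    subst h h'
    simp
  exact h (sch_obj_eq f (g.obj z)) (sch_obj_eq g z) (u.app (f.obj (g.obj z)))

theorem comapIdIso_nat {F G : Mod 𝒳} (u : F ⟶ G) :
    Mod.comapMap (BasedFunctor.id 𝒳) u ≫ (comapIdIso G).hom = (comapIdIso F).hom ≫ u := by
  apply Mod.hom_ext
  intro z
  change castHom rfl (u.app z) ≫ 𝟙 _ = 𝟙 _ ≫ u.app z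
  rw [Category.comp_id, Category.id_comp]
  rfl

/-- Inverse images along `Φ` then `Ψ` when the composite is isomorphic to the identity. -/
noncomputable def comapInv {Φ : 𝒴 ⥤ᵇ 𝒳} {Ψ : 𝒳 ⥤ᵇ 𝒴} (a : BasedFunctor.comp Φ Ψ ≅ BasedFunctor.id 𝒴) (M : Mod 𝒴) :
    Mod.comap Φ (Mod.comap Ψ M) ≅ M :=
  (comapCompIso Ψ Φ M).symm ≪≫ (comapCongr a M).symm ≪≫ comapIdIso M

theorem comapInv_nat {Φ : 𝒴 ⥤ᵇ 𝒳} {Ψ : 𝒳 ⥤ᵇ 𝒴} (a : BasedFunctor.comp Φ Ψ ≅ BasedFunctor.id 𝒴) {M N : Mod 𝒴}
    (u : M ⟶ N) : Mod.comapMap Φ (Mod.comapMap Ψ u) ≫ (comapInv a N).hom = (comapInv a M).hom ≫ u := by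
  have h1 : Mod.comapMap Φ (Mod.comapMap Ψ u) ≫ (comapCompIso Ψ Φ N).inv =
      (comapCompIso Ψ Φ M).inv ≫ Mod.comapMap (BasedFunctor.comp Φ Ψ) u := by
    rw [Iso.comp_inv_eq, Category.assoc, comapCompIso_nat, Iso.inv_hom_id_assoc]
  have h2 := comapNat_nat a.inv u
  have h3 := comapIdIso_nat u
  change Mod.comapMap Φ (Mod.comapMap Ψ u) ≫ (comapCompIso Ψ Φ N).inv ≫ comapNat a.inv N ≫ (comapIdIso N).hom =
    ((comapCompIso Ψ Φ M).inv ≫ comapNat a.inv M ≫ (comapIdIso M).hom) ≫ u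
  rw [← Category.assoc, h1]
  simp only [Category.assoc]
  rw [← h3, ← Category.assoc (comapNat a.inv M), h2]
  simp only [Category.assoc]

theorem eq_zero_of_comapMap {Φ : 𝒴 ⥤ᵇ 𝒳} {Ψ : 𝒳 ⥤ᵇ 𝒴} (a : BasedFunctor.comp Φ Ψ ≅ BasedFunctor.id 𝒴) {M N : Mod 𝒴}
    (u : M ⟶ N) (h : Mod.comapMap Ψ u = 0) : u = 0 := by
  have h1 := comapInv_nat a u
  have h0 : Mod.comapMap Φ (0 : Mod.comap Ψ M ⟶ Mod.comap Ψ N) = 0 := (comapFunctor Φ).map_zero _ _
  rw [h, h0, Limits.zero_comp] at h1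
  rw [← cancel_epi (comapInv a M).hom, ← h1, Limits.comp_zero]

variable {ι : Type t}

/-- Generating families are invariant under isomorphisms of the members. -/
theorem isGenFam_congr {E E' : ι → QCoh 𝒳} (e : ∀ i, (E i).obj ≅ (E' i).obj) (h : IsGenFam E) : IsGenFam E' := by
  rw [isGenFam_iff] at h ⊢
  intro M N u hu
  refine h u fun i φ => ?_
  have h1 := hu i ((e i).inv ≫ φ)
  rw [Category.assoc] at h1
  rw [← cancel_epi (e i).inv, h1, Limits.comp_zero]

/-- The inverse image of a generating family along an equivalence over the base is generating. -/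
theorem isGenFam_comapQ {Φ : 𝒴 ⥤ᵇ 𝒳} (hΦ : FibCat.IsEquivOver Φ) {E : ι → QCoh 𝒳} (h : IsGenFam E) :
    IsGenFam (fun i => (comapQ Φ).obj (E i)) := by
  obtain ⟨Ψ, ⟨a⟩, ⟨b⟩⟩ := hΦ
  rw [isGenFam_iff] at h ⊢
  intro M N u hu
  have key : (comapQ Ψ).map u = 0 := by
    refine h _ fun i φ => ?_
    change φ ≫ Mod.comapMap Ψ u.hom = 0
    refine eq_zero_of_comapMap b _ ?_
    have h1 := hu i (Mod.comapMap Φ φ ≫ (comapInv a M.obj).hom)
    have h2 : Mod.comapMap Φ (φ ≫ Mod.comapMap Ψ u.hom) = Mod.comapMap Φ φ ≫ Mod.comapMap Φ (Mod.comapMap Ψ u.hom) :=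
      (comapFunctor Φ).map_comp _ _
    rw [h2, ← cancel_mono (comapInv a N.obj).hom, Category.assoc, comapInv_nat, ← Category.assoc]
    rw [Limits.zero_comp]
    exact h1
  have h3 : u.hom = 0 := eq_zero_of_comapMap a u.hom (congrArg (fun t => t.hom) key)
  exact InducedCategory.hom_ext h3

theorem isGenFam_comapQ_iff {Φ : 𝒴 ⥤ᵇ 𝒳} (hΦ : FibCat.IsEquivOver Φ) {E : ι → QCoh 𝒳} :
    IsGenFam (fun i => (comapQ Φ).obj (E i)) ↔ IsGenFam E := by
  refine ⟨fun h => ?_, isGenFam_comapQ hΦ⟩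
  obtain ⟨Ψ, hΨ, ⟨a⟩, ⟨b⟩⟩ := IsEquivOver.exists_inv hΦ
  exact isGenFam_congr (fun i => comapInv b (E i).obj) (isGenFam_comapQ hΨ h)

end NatIso

end K90.GenInv
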