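import Groth.Agent.AlgSt.K741.Desc
import Groth.Agent.AlgSt.K735.Top
import Groth.Agent.AlgSt.K736.Cover
import Groth.Agent.AlgSt.K734.Yon2
import Groth.Agent.TwSh.K799.DescProp
import Groth.Agent.TwSh.K799.LFree
import Groth.Agent.Gerb.K894.SmST

/-!
# Local lifts along a jointly surjective family of flat morphisms locally of finite presentation

* `exists_chart_pt` : through every point of a smooth chart passes a flat, locally finitely presented chart of the source;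
* `exists_cov_lift` : objects of the target lift, fppf-locally, to the members of the family;
* `exists_cov_fp` : the same for the fibre products `𝒳 ×_𝒴 𝒴' a` over `𝒳`;
* `prop_of_cov` : descent of a property of modules along the family.
-/

set_option autoImplicit false
set_option backward.isDefEq.respectTransparency false
set_option backward.isDefEq.respectTransparency.types false

universe v' w' v w u

open CategoryTheory CategoryTheory.Limits AlgebraicGeometry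
open K799.Cover K799.StM K799.Arr StMod

namespace K90.Lifts

variable {S : Scheme.{u}}

/-- Flat, locally of finite presentation, and hitting the point `t`. -/
def GoodAt {A B : Over S} (m : A ⟶ B) (t : B.left) : Prop := FP m.left ∧ t ∈ Set.range m.left.base

theorem goodAt_eqToHom_comp {A A' B : Over S} (e : A' = A) {m : A ⟶ B} {t : B.left} (h : GoodAt m t) :
    GoodAt (eqToHom e ≫ m) t := by
  subst e
  rwa [eqToHom_refl, Category.id_comp]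

theorem goodAt_comp_eqToHom {A B B' : Over S} (e : B = B') {m : A ⟶ B} {t : B'.left}
    (h : GoodAt m ((eqToHom e.symm).left t)) : GoodAt (m ≫ eqToHom e) t := by
  subst e
  rw [eqToHom_refl, Category.comp_id]
  exact h

theorem GoodAt.comp {A B C : Over S} {m : A ⟶ B} {n : B ⟶ C} {t : B.left} (h : GoodAt m t) (h' : FP n.left) :
    GoodAt (m ≫ n) (n.left t) := by
  refine ⟨h.1.comp h', ?_⟩
  obtain ⟨s, hs⟩ := h.2
  refine ⟨s, ?_⟩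
  change n.left (m.left s) = n.left t
  exact congrArg _ hs

section

variable {𝒵 𝒴 : AlgSt.Cat S}

theorem locQ_mono {P Q : MorphismProperty Scheme.{u}} (hPQ : P ≤ Q) {f : 𝒵 ⥤ᵇ 𝒴}
    (h : AlgSt.LocQ (AlgSp.LocP P) f) : AlgSt.LocQ (AlgSp.LocP Q) f := by
  obtain ⟨U₀, V₀, x₀, y₀, h₀, α₀, hx₀, hx₀', hy₀, hP₀⟩ := h
  exact ⟨U₀, V₀, x₀, y₀, h₀, α₀, hx₀, hx₀', hy₀, fun _ _ a b c ha hb hc => hPQ _ (hP₀ a b c ha hb hc)⟩

/-- Through every point of a smooth chart of the target hit by `q` passes a flat chart of the source. -/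
theorem exists_chart_pt (h𝒵 : AlgSt.IsAlgStack Scheme.fppfPrecoverage 𝒵)
    (h𝒴 : AlgSt.IsAlgStack Scheme.fppfPrecoverage 𝒴) (u : 𝒵 ⥤ᵇ 𝒴)
    (hu : AlgSt.LocQ (AlgSp.LocP (@Flat ⊓ @LocallyOfFinitePresentation)) u) {V : Over S} (c : FibCat.overCat V ⥤ᵇ 𝒴)
    (hc : AlgSt.RepByAlgSpWith (AlgSp.LocP @Smooth) c) (v : V.left) (q : AlgSt.Points 𝒵)
    (hq : AlgSt.Points.map u q = AlgSt.Points.ofChart c v) :
    ∃ (U : Over S) (x : FibCat.overCat U ⥤ᵇ 𝒵) (h : U ⟶ V)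
      (_ : BasedFunctor.comp x u ≅ BasedFunctor.comp (AlgSt.overMap h) c), GoodAt h v := by
  obtain ⟨U, x, h, α, -, hk, -⟩ := K741.exists_chart h𝒵 h𝒴 u c hc
  have g𝒵 := h𝒵.isStack.1
  have g𝒴 := h𝒴.isStack.1
  have gV := K735.Fp.isFibGrpd_overCat V
  refine ⟨U, x, h, α, ⟨?_, ?_⟩, ?_⟩
  · exact AlgSp.locP_yon_map (K741.prop_of_locQ K894.SmST.isSmoothLocalST_flat g𝒵 g𝒴
      (locQ_mono inf_le_left hu) x c h α hc hk.smooth)
  · exact AlgSp.locP_yon_map (K741.prop_of_locQ K894.SmST.isSmoothLocalST_lfp g𝒵 g𝒴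
      (locQ_mono inf_le_right hu) x c h α hc hk.smooth)
  · obtain ⟨w, -, hw⟩ := K735.Pts.exists_fp gV g𝒵 g𝒴 u c q
      (AlgSt.Points.ofChart (BasedFunctor.id (FibCat.overCat V)) v) hq
    obtain ⟨p, hp⟩ := K735.Top.surjective_of_repByAlgSpWith (K735.Fp.isFibGrpd_fp g𝒵 gV g𝒴 u c)
      (K735.Fp.isFibGrpd_overCat U) hk.surj w
    obtain ⟨t, rfl⟩ := K735.PtsSp.exists_ofChart_id p
    refine ⟨t, (K735.PtsSp.ofChart_id_bijective V).1 ?_⟩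
    rw [← hw, ← hp]
    exact (K735.PtsSp.ofChart_overMap h (BasedFunctor.id (FibCat.overCat V)) t).symm

end

section

variable {𝒴 : AlgSt.Cat S}

theorem goodAt_vert {a b c : 𝒴.obj} {v : a ⟶ b} (hv : K735.Fib.Vert 𝒴.p v) {n : b ⟶ c} {t : (𝒴.p.obj c).left}
    (h : GoodAt (𝒴.p.map n) t) : GoodAt (𝒴.p.map (v ≫ n)) t := by
  rw [Functor.map_comp, hv.map_eq]
  exact goodAt_eqToHom_comp _ h

/-- Objects of the target lift locally along a jointly surjective family. -/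
theorem exists_cov_lift (h𝒴 : AlgSt.IsAlgStack Scheme.fppfPrecoverage 𝒴) {A : Type u} {𝒴' : A → AlgSt.Cat S}
    (h𝒴' : ∀ a, AlgSt.IsAlgStack Scheme.fppfPrecoverage (𝒴' a)) (u : ∀ a, 𝒴' a ⥤ᵇ 𝒴)
    (hfl : ∀ a, AlgSt.LocQ (AlgSp.LocP (@Flat ⊓ @LocallyOfFinitePresentation)) (u a))
    (hsurj : ∀ p : AlgSt.Points 𝒴, ∃ (a : A) (q : AlgSt.Points (𝒴' a)), AlgSt.Points.map (u a) q = p)
    (y : 𝒴.obj) (t : (𝒴.p.obj y).left) :
    ∃ (a : A) (y' : (𝒴' a).obj) (φ : (u a).obj y' ⟶ y), GoodAt (𝒴.p.map φ) t := by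
  have g𝒴 := h𝒴.isStack.1
  obtain ⟨V, c, hc, hc'⟩ := h𝒴.atlas
  let T : Over S := 𝒴.p.obj y
  let Y : FibCat.overCat T ⥤ᵇ 𝒴 := K734.Fib.yo g𝒴 y rfl
  let ε : Y.obj (K734.Fib.one T) ≅ y := K734.Fib.yoIso g𝒴 y rfl
  have hε : K735.Fib.Vert 𝒴.p ε.hom :=
    K735.Fib.vert_of_map_eq ((K734.Fib.yoIso_vert g𝒴 y rfl).obj_eq) ((K734.Fib.yoIso_vert g𝒴 y rfl).map_eq)
  have hc₁ : AlgSt.RepByAlgSpWith (AlgSp.LocP @Flat) c := fun U y => by
    obtain ⟨F, e, he, hP⟩ := hc U y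
    exact ⟨F, e, he, K597.locP_mono (fun _ _ f (_ : Smooth f) => (inferInstance : Flat f)) hP⟩
  have hc₂ : AlgSt.RepByAlgSpWith (AlgSp.LocP @LocallyOfFinitePresentation) c := fun U y => by
    obtain ⟨F, e, he, hP⟩ := hc U y
    exact ⟨F, e, he, K597.locP_mono (fun _ _ f (_ : Smooth f) => (inferInstance : LocallyOfFinitePresentation f)) hP⟩
  obtain ⟨T', g, hg1, hg2, hg3, z, ⟨β⟩⟩ := K736.Cover.locEssSurj hc₁ hc₂ hc' T Y
  obtain ⟨b, ⟨ζ⟩⟩ := K735.Top.exists_iso_overMap z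
  obtain ⟨t', ht'⟩ := hg3.surj t
  obtain ⟨a, q, hq⟩ := hsurj (AlgSt.Points.ofChart c (b.left t'))
  obtain ⟨U, x, h, α, hh, hh'⟩ := exists_chart_pt (h𝒴' a) h𝒴 (u a) (hfl a) c hc (b.left t') q hq
  let γ : BasedFunctor.comp (AlgSt.overMap b) c ≅ BasedFunctor.comp (AlgSt.overMap g) Y :=
    (K735.Fib.whiskerRightIso ζ c).symm ≪≫ β
  let W : Over S := Over.mk (pullback.fst b.left h.left ≫ T'.hom)
  let p : W ⟶ T' := Over.homMk (pullback.fst b.left h.left) rfl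
  let r : W ⟶ U := Over.homMk (pullback.snd b.left h.left) (by
    change _ = pullback.fst b.left h.left ≫ T'.hom
    rw [← Over.w b, ← Over.w h, ← Category.assoc, ← Category.assoc, pullback.condition])
  have hpr : p ≫ b = r ≫ h := Over.OverMorphism.ext pullback.condition
  have hp : GoodAt p t' := by
    refine ⟨FP.fst _ _ hh, ?_⟩
    have h1 := Scheme.Pullback.range_fst (f := b.left) (g := h.left)
    have h2 : t' ∈ b.left ⁻¹' Set.range h.left := hh'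
    rw [← h1] at h2
    exact h2
  let m : (AlgSt.overMap h).obj (Over.mk r) ⟶ (AlgSt.overMap b).obj (Over.mk p) := Over.homMk (𝟙 W) (by
    change 𝟙 W ≫ p ≫ b = r ≫ h
    rw [Category.id_comp, hpr])
  let m' : (AlgSt.overMap g).obj (Over.mk p) ⟶ K734.Fib.one T := Over.homMk (p ≫ g) (Category.comp_id _)
  have hm : K735.Fib.Vert 𝒴.p (c.map m) := K735.Fib.Vert.map c (K735.Fib.vert_of_map_eq rfl rfl)
  refine ⟨a, x.obj (Over.mk r), (K735.Fib.isoApp α (Over.mk r)).hom ≫ c.map m ≫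
    (K735.Fib.isoApp γ (Over.mk p)).hom ≫ Y.map m' ≫ ε.hom, ?_⟩
  refine goodAt_vert (K735.Fib.vert_isoApp α _) (goodAt_vert hm (goodAt_vert (K735.Fib.vert_isoApp γ _) ?_))
  have h1 : 𝒴.p.map (Y.map m' ≫ ε.hom) = eqToHom (Y.w_obj _) ≫ p ≫ g := by
    rw [Functor.map_comp, K735.Fib.map_map, hε.map_eq]
    simp
    rfl
  rw [h1]
  refine goodAt_eqToHom_comp _ ?_
  rw [← show g.left t' = t from ht']
  exact hp.comp ⟨hg1, hg2⟩

/-- The objects of the fibre products `𝒳 ×_𝒴 𝒴' a` cover the objects of `𝒳`. -/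
theorem exists_cov_fp {𝒳 : AlgSt.Cat S} (h𝒳 : FibCat.IsFibGrpd 𝒳.p) (h𝒴 : AlgSt.IsAlgStack Scheme.fppfPrecoverage 𝒴)
    {A : Type u} {𝒴' : A → AlgSt.Cat S}
    (h𝒴' : ∀ a, AlgSt.IsAlgStack Scheme.fppfPrecoverage (𝒴' a)) (u : ∀ a, 𝒴' a ⥤ᵇ 𝒴)
    (hfl : ∀ a, AlgSt.LocQ (AlgSp.LocP (@Flat ⊓ @LocallyOfFinitePresentation)) (u a))
    (hsurj : ∀ p : AlgSt.Points 𝒴, ∃ (a : A) (q : AlgSt.Points (𝒴' a)), AlgSt.Points.map (u a) q = p)
    (f : 𝒳 ⥤ᵇ 𝒴) (ξ : 𝒳.obj) :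
    ∃ (a : sch 𝒳 ξ → A) (w : ∀ t, (FibCat.fp f (u (a t))).obj)
      (ψ : ∀ t, (FibCat.fpFst f (u (a t))).obj (w t) ⟶ ξ), IsCov (fun t => bs (FibCat.fpFst f (u (a t))) (ψ t)) := by
  have g𝒴 := h𝒴.isStack.1
  have key : ∀ t : (𝒳.p.obj ξ).left, ∃ (a : A) (w : (FibCat.fp f (u a)).obj)
      (ψ : (FibCat.fpFst f (u a)).obj w ⟶ ξ), GoodAt (baseOver (FibCat.fpFst f (u a)) w ψ) t := by
    intro t
    obtain ⟨a, y', φ, hφ⟩ := exists_cov_lift h𝒴 h𝒴' u hfl hsurj (f.obj ξ) ((eqToHom (f.w_obj ξ).symm).left t)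
    obtain ⟨ξ'', ψ, e, hψ⟩ := K735.Fib.exists_lift h𝒳 (x := ξ) (𝒴.p.map φ ≫ eqToHom (f.w_obj ξ))
    obtain ⟨χ, hχ1, hχ2⟩ := K735.Fib.exists_hom g𝒴 φ (f.map ψ) (eqToHom ((f.w_obj ξ'').trans e)) (by
      rw [K735.Fib.map_map, hψ]
      simp)
    have hχ : K735.Fib.Vert 𝒴.p χ := K735.Fib.vert_of_map_eq _ hχ1
    have := hχ.isIso g𝒴
    refine ⟨a, K735.Fp.mkFp f (u a) ξ'' y' (asIso χ) hχ, ψ, ?_⟩
    change GoodAt (eqToHom _ ≫ 𝒳.p.map ψ) t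
    rw [hψ]
    exact goodAt_eqToHom_comp _ (goodAt_eqToHom_comp _ (goodAt_comp_eqToHom _ hφ))
  choose a w ψ h using key
  exact ⟨a, w, ψ, ⟨fun t => (h t).1, fun t => ⟨t, (h t).2⟩⟩⟩

theorem prop_castMod (P : ∀ {X : Scheme.{u}}, X.Modules → Prop) {X T : Scheme.{u}} (h : X = T) {M : X.Modules}
    (hM : P M) : P (castMod h M) := by
  subst h; exact hM

/-- Descent of a property of modules along a jointly surjective family. -/
theorem prop_of_cov {𝒳 : AlgSt.Cat S} (P : ∀ {X : Scheme.{u}}, X.Modules → Prop)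
    (hiso : ∀ {X : Scheme.{u}} {M N : X.Modules} (_ : M ≅ N), P M → P N)
    (hdesc : ∀ {T : Scheme.{u}} {F : T → Scheme.{u}} {f : ∀ i, F i ⟶ T} (_ : IsCov f) {M : T.Modules}
      (_ : Coh.IsQCoh M) (_ : ∀ i, P ((Scheme.Modules.pullback (f i)).obj M)), P M)
    (h𝒳 : FibCat.IsFibGrpd 𝒳.p) (h𝒴 : AlgSt.IsAlgStack Scheme.fppfPrecoverage 𝒴)
    {A : Type u} {𝒴' : A → AlgSt.Cat S}
    (h𝒴' : ∀ a, AlgSt.IsAlgStack Scheme.fppfPrecoverage (𝒴' a)) (u : ∀ a, 𝒴' a ⥤ᵇ 𝒴)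
    (hfl : ∀ a, AlgSt.LocQ (AlgSp.LocP (@Flat ⊓ @LocallyOfFinitePresentation)) (u a))
    (hsurj : ∀ p : AlgSt.Points 𝒴, ∃ (a : A) (q : AlgSt.Points (𝒴' a)), AlgSt.Points.map (u a) q = p)
    (f : 𝒳 ⥤ᵇ 𝒴) (G : QCoh 𝒳)
    (hG : ∀ (a : A) (w : (FibCat.fp f (u a)).obj), P ((Mod.comap (FibCat.fpFst f (u a)) G.obj).obj w)) (ξ : 𝒳.obj) :
    P (G.obj.obj ξ) := by
  obtain ⟨a, w, ψ, hc⟩ := exists_cov_fp h𝒳 h𝒴 h𝒴' u hfl hsurj f ξ
  refine hdesc hc (G.property.2 ξ) fun t => ?_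
  have hi : IsIso (adjS (trA (FibCat.fpFst f (u (a t))) G.obj (ψ t) (bs _ (ψ t)) rfl)) :=
    isCart_trA (FibCat.fpFst f (u (a t))) G.property.1 (ψ t) _ rfl
  exact hiso (asIso (adjS (trA (FibCat.fpFst f (u (a t))) G.obj (ψ t) (bs _ (ψ t)) rfl))).symm (hG _ (w t))

theorem isFinLocFree_of_iso {X : Scheme.{u}} {M N : X.Modules} (e : M ≅ N) (h : FlatMod.IsFinLocFree M) :
    FlatMod.IsFinLocFree N := by
  intro x
  obtain ⟨U, n, hx, ⟨e'⟩⟩ := h x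
  exact ⟨U, n, hx, ⟨(Scheme.Modules.restrictFunctor U.ι).mapIso e.symm ≪≫ e'⟩⟩

/-- Descent of "locally free of finite type" along a jointly surjective family. -/
theorem isFinLocFree_of_cov {𝒳 : AlgSt.Cat S} (h𝒳 : FibCat.IsFibGrpd 𝒳.p)
    (h𝒴 : AlgSt.IsAlgStack Scheme.fppfPrecoverage 𝒴) {A : Type u} {𝒴' : A → AlgSt.Cat S}
    (h𝒴' : ∀ a, AlgSt.IsAlgStack Scheme.fppfPrecoverage (𝒴' a)) (u : ∀ a, 𝒴' a ⥤ᵇ 𝒴)
    (hfl : ∀ a, AlgSt.LocQ (AlgSp.LocP (@Flat ⊓ @LocallyOfFinitePresentation)) (u a))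
    (hsurj : ∀ p : AlgSt.Points 𝒴, ∃ (a : A) (q : AlgSt.Points (𝒴' a)), AlgSt.Points.map (u a) q = p)
    (f : 𝒳 ⥤ᵇ 𝒴) (G : QCoh 𝒳)
    (hG : ∀ a, ((comapQ (FibCat.fpFst f (u a))).obj G).obj.IsLocFree ∧
      ((comapQ (FibCat.fpFst f (u a))).obj G).obj.IsFinType) (ξ : 𝒳.obj) : FlatMod.IsFinLocFree (G.obj.obj ξ) :=
  prop_of_cov (fun {X} M => FlatMod.IsFinLocFree M) (fun e h => isFinLocFree_of_iso e h)
    (fun hc _ hM h => K799.DescProp.isFinLocFree_desc hc hM h) h𝒳 h𝒴 h𝒴' u hfl hsurj f G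
    (fun a w => (K799.LFree.locFree_finType_iff _).1 ⟨(hG a).1 w, (hG a).2 w⟩) ξ

end

end K90.Lifts
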