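import Groth.Agent.ResProp.K90.RelGen
import Groth.Agent.StMod.K906.FibRep
import Groth.Agent.AlgSt.K735.Rep
import Groth.Agent.S4407

/-!
# The structure sheaf generates relative to a quasi-affine map

* `homOfTerm` : morphisms out of a cartesian module on a category with a terminal object;
* `isGenFam_O` : if the scheme of the terminal object is quasi-affine, the structure sheaf is generating;
* `isRelGenFam_O` : row S17313.
-/

set_option autoImplicit false
set_option backward.isDefEq.respectTransparency false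
set_option backward.isDefEq.respectTransparency.types false

universe t w' v' w v u

open CategoryTheory CategoryTheory.Limits AlgebraicGeometry StMod Opposite TopologicalSpace

namespace K90.QAffGen

open K735.Fib K735.Fp K735.Rep K90.GenInv K90.RelGen

variable {S : Scheme.{u}}

section Terminal

variable {𝒲 : BasedCategory.{v, w} (Over S)} {w₀ : 𝒲.obj} (tm : ∀ x : 𝒲.obj, x ⟶ w₀)

/-- The adjoint of the comparison map. -/
noncomputable abbrev adj {X Y : Scheme.{u}} (g : X ⟶ Y) {M : Y.Modules} {N : X.Modules}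
    (m : M ⟶ (Scheme.Modules.pushforward g).obj N) : (Scheme.Modules.pullback g).obj M ⟶ N :=
  ((Scheme.Modules.pullbackPushforwardAdjunction g).homEquiv M N).symm m

theorem adj_comp {X Y : Scheme.{u}} (g : X ⟶ Y) {M : Y.Modules} {N P : X.Modules}
    (m : M ⟶ (Scheme.Modules.pushforward g).obj N) (n : N ⟶ P) :
    adj g (m ≫ (Scheme.Modules.pushforward g).map n) = adj g m ≫ n :=
  Adjunction.homEquiv_naturality_right_symm _ _ _

theorem comp_adj {X Y : Scheme.{u}} (g : X ⟶ Y) {M M' : Y.Modules} {N : X.Modules}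
    (a : M ⟶ M') (m : M' ⟶ (Scheme.Modules.pushforward g).obj N) :
    adj g (a ≫ m) = (Scheme.Modules.pullback g).map a ≫ adj g m :=
  Adjunction.homEquiv_naturality_left_symm _ _ _

/-- Maps out of the restriction of a cartesian module are determined after the comparison map. -/
theorem eq_of_comp {F : Mod 𝒲} (hF : F.IsCartesian) {x' x : 𝒲.obj} (φ : x' ⟶ x) {g : sch 𝒲 x' ⟶ sch 𝒲 x}
    (hg : bmap 𝒲 φ = g) {P : (sch 𝒲 x').Modules} {a b : F.obj x' ⟶ P}
    (h : F.map φ hg ≫ (Scheme.Modules.pushforward g).map a = F.map φ hg ≫ (Scheme.Modules.pushforward g).map b) :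
    a = b := by
  have := hF φ hg
  have h' := congrArg (adj g) h
  rw [adj_comp, adj_comp] at h'
  exact (cancel_epi _).1 h'

theorem exists_of_comp {F : Mod 𝒲} (hF : F.IsCartesian) {x' x : 𝒲.obj} (φ : x' ⟶ x) {g : sch 𝒲 x' ⟶ sch 𝒲 x}
    (hg : bmap 𝒲 φ = g) {P : (sch 𝒲 x').Modules} (m : F.obj x ⟶ (Scheme.Modules.pushforward g).obj P) :
    ∃ a : F.obj x' ⟶ P, F.map φ hg ≫ (Scheme.Modules.pushforward g).map a = m := by
  have := hF φ hg
  refine ⟨inv (adj g (F.map φ hg)) ≫ adj g m, ?_⟩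
  apply ((Scheme.Modules.pullbackPushforwardAdjunction g).homEquiv _ _).symm.injective
  change adj g _ = adj g _
  rw [adj_comp]
  simp

variable {F G : Mod 𝒲}

include tm in
theorem hom_ext_term (hF : F.IsCartesian) {a b : F ⟶ G} (h : a.app w₀ = b.app w₀) : a = b := by
  apply Mod.hom_ext
  intro x
  refine eq_of_comp hF (tm x) rfl ?_
  rw [a.comm, b.comm, h]

include tm in
theorem eq_zero_of_term (hF : F.IsCartesian) {a : F ⟶ G} (h : a.app w₀ = 0) : a = 0 :=
  hom_ext_term tm hF (by rw [h]; rfl)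

theorem exists_homOfTerm (hu : ∀ {x : 𝒲.obj} (f : x ⟶ w₀), f = tm x) (hF : F.IsCartesian)
    (φ : F.obj w₀ ⟶ G.obj w₀) : ∃ a : F ⟶ G, a.app w₀ = φ := by
  choose a ha using fun x : 𝒲.obj => exists_of_comp hF (tm x) rfl (φ ≫ G.map (tm x) rfl)
  have ha' : ∀ (x : 𝒲.obj) (f : x ⟶ w₀) {g : sch 𝒲 x ⟶ sch 𝒲 w₀} (hg : bmap 𝒲 f = g),
      F.map f hg ≫ (Scheme.Modules.pushforward g).map (a x) = φ ≫ G.map f hg := by
    intro x f g hg
    subst hg
    obtain rfl := hu f
    exact ha x
  refine ⟨⟨a, ?_⟩, ?_⟩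
  · intro x' x ψ k hk
    subst hk
    refine eq_of_comp hF (tm x) rfl ?_
    rw [Functor.map_comp, Functor.map_comp, ← Category.assoc (F.map (tm x) rfl) ((Scheme.Modules.pushforward _).map (a x)),
      ha' x (tm x) rfl, ← cancel_mono ((Scheme.Modules.pushforwardComp (bmap 𝒲 ψ) (bmap 𝒲 (tm x))).hom.app (G.obj x'))]
    have h1 := F.map_comp ψ (tm x) rfl rfl
    have h2 := G.map_comp ψ (tm x) rfl rfl
    have h3 := ha' x' (ψ ≫ tm x) (bmap_comp ψ (tm x))
    have h4 := (Scheme.Modules.pushforwardComp (bmap 𝒲 ψ) (bmap 𝒲 (tm x))).hom.naturality (a x')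
    simp only [Functor.comp_map] at h4
    simp only [Category.assoc]
    rw [h4, ← h2, ← h3, h1]
    simp only [Category.assoc]
  · have h1 := ha' w₀ (𝟙 w₀) (bmap_id w₀)
    have h2 := F.map_id w₀
    have h3 := G.map_id w₀
    have h4 := (Scheme.Modules.pushforwardId (sch 𝒲 w₀)).hom.naturality (a w₀)
    simp only [Functor.id_map] at h4
    have h5 := congrArg (fun t => t ≫ (Scheme.Modules.pushforwardId (sch 𝒲 w₀)).hom.app (G.obj w₀)) h1
    simp only [Category.assoc] at h5
    rw [h4, ← Category.assoc, h2, h3, Category.id_comp, Category.comp_id] at h5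
    exact h5

/-- If the scheme of a terminal object is quasi-affine, the structure sheaf is generating. -/
theorem isGenFam_O (hu : ∀ {x : 𝒲.obj} (f : x ⟶ w₀), f = tm x) (hq : (sch 𝒲 w₀).IsQuasiAffine) {ι : Type t}
    [Nonempty ι] : IsGenFam (fun _ : ι => OQ 𝒲) := by
  rw [isGenFam_iff]
  intro M N u h
  have i0 : ι := Classical.arbitrary ι
  obtain ⟨I, q, hq'⟩ := Groth.Agent.S4407.result (sch 𝒲 w₀) (M.obj.obj w₀) (M.property.2 w₀)
  have h1 : q ≫ u.hom.app w₀ = 0 := by
    refine freeMod_hom_ext fun i => ?_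
    obtain ⟨a, ha⟩ := exists_homOfTerm tm hu (F := O 𝒲) (G := M.obj) isCartesian_O
      (show Coh.structureModule (sch 𝒲 w₀) ⟶ M.obj.obj w₀ from ιfree (sch 𝒲 w₀) i ≫ q)
    have h2 := congrArg (fun t => Mod.Hom.app t w₀) (h i0 a)
    have h3 : (a ≫ u.hom).app w₀ = 0 := h2
    rw [Mod.comp_app, ha] at h3
    rw [← Category.assoc, Limits.comp_zero]
    exact h3
  have h4 : u.hom.app w₀ = 0 := by
    have := hq'
    rw [← cancel_epi q, h1, Limits.comp_zero]
  exact InducedCategory.hom_ext (eq_zero_of_term tm M.property.1 h4)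

end Terminal

/-- The structure sheaf of a quasi-affine scheme is generating on its slice. -/
theorem isGenFam_overCat (W : CategoryTheory.Over S) (hW : W.left.IsQuasiAffine) {ι : Type t} [Nonempty ι] :
    IsGenFam (fun _ : ι => OQ (FibCat.overCat W)) :=
  isGenFam_O (𝒲 := FibCat.overCat W) (w₀ := CategoryTheory.Over.mk (𝟙 W)) (fun x => CategoryTheory.Over.mkIdTerminal.from x)
    (fun f => CategoryTheory.Over.mkIdTerminal.hom_ext _ _) hW

/-- Row S17313. -/
theorem isRelGenFam_O {𝒳 : BasedCategory.{v, w} (Over S)} {𝒴 : BasedCategory.{v', w'} (Over S)}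
    (h𝒴 : FibCat.IsFibGrpd 𝒴.p) (f : 𝒳 ⥤ᵇ 𝒴) (hf : AlgSt.RepByAlgSpWith AlgSp.IsQuasiAffineMor f)
    {ι : Type t} [Nonempty ι] : IsRelGenFam f (fun _ : ι => OQ 𝒳) := by
  rw [isRelGenFam_iff]
  intro η hη
  obtain ⟨F, π, hπ, ⟨R⟩⟩ := K906.exists_secRep_fibCat h𝒴 hf η
  obtain ⟨W, i, fst, sq, hW⟩ := hπ hη (𝟙 _)
  have hfst := sq.isIso_fst_of_isIso
  have e1 := R.isEquivOver_toOfSp
  have e2 : FibCat.IsEquivOver (AlgSt.ofSpMap (inv fst)) := isEquivOver_ofSpMap_of_isIso (inv fst)
  have e3 := isEquivOver_toOverCat W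
  have e := IsEquivOver.comp e1 (IsEquivOver.comp e2 e3)
  have h1 := isGenFam_comapQ e (isGenFam_overCat W hW (ι := ι))
  exact isGenFam_congr (fun _ => comapOIso _ ≪≫ (comapOIso (K906.fibPt f η)).symm) h1

end K90.QAffGen
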