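import Groth.Agent.ResProp.K90.GenInv
import Groth.Agent.AlgSt.K735.Fp
import Groth.Agent.StMod.K906.FibCat
import Groth.Agent.StMod.K906.Comap

/-!
# Base change and invariance of relative generating families

* `toK`, `ofK` : the prelude's `StMod.fibCat` is the library's `K906.fibCat`; `isFibGrpd_fibCat`;
* `isRelGenFam_fpSnd` : relative generation is stable under base change `𝒳 ×_𝒮 𝒴 ⟶ 𝒴`;
* `isRelGenFam_graph` : the graph `𝒳 ⟶ 𝒳 ×_𝒵 𝒴` is a base change of the diagonal of `g : 𝒴 ⟶ 𝒵`;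
* `isRelGenFam_congr`, `isRelGenFam_of_iso` : invariance under isomorphisms of the members and 2-isomorphisms of the map.
-/

set_option autoImplicit false
set_option backward.isDefEq.respectTransparency false
set_option backward.isDefEq.respectTransparency.types false

universe t w₃ v₃ w'' v'' w' v' w v u

open CategoryTheory CategoryTheory.Limits AlgebraicGeometry StMod Opposite TopologicalSpace

namespace K90.RelGen

open K735.Fib K735.Fp K90.GenInv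

variable {S : Scheme.{u}} {𝒳 : BasedCategory.{v, w} (Over S)} {𝒴 : BasedCategory.{v', w'} (Over S)}
  {𝒮 : BasedCategory.{v'', w''} (Over S)} {ι : Type t}

section Compare

variable (π : 𝒳 ⥤ᵇ 𝒴) (η : 𝒴.obj)

/-- From the prelude's category over `η` to the library's. -/
def toK : StMod.fibCat π η ⥤ᵇ K906.fibCat π η where
  toFunctor :=
    { obj := fun x => ⟨x.left, x.hom⟩
      map := fun f => K906.FObj.mkHom f.left (CostructuredArrow.w f) }
  w := rfl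

/-- From the library's category over `η` to the prelude's. -/
def ofK : K906.fibCat π η ⥤ᵇ StMod.fibCat π η where
  toFunctor :=
    { obj := fun x => CostructuredArrow.mk (Y := K906.FObj.pt x) (K906.FObj.arr x)
      map := fun f => CostructuredArrow.homMk (K906.FObj.Hom.hom f) (K906.FObj.Hom.comm f) }
  w := rfl

theorem isEquivOver_toK : FibCat.IsEquivOver (toK π η) := ⟨ofK π η, ⟨Iso.refl _⟩, ⟨Iso.refl _⟩⟩

theorem isEquivOver_ofK : FibCat.IsEquivOver (ofK π η) := ⟨toK π η, ⟨Iso.refl _⟩, ⟨Iso.refl _⟩⟩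

theorem isFibGrpd_fibCat (h : FibCat.IsFibGrpd 𝒳.p) : FibCat.IsFibGrpd (StMod.fibCat π η).p :=
  isFibGrpd_of_isEquivOver (isEquivOver_ofK π η) (K906.isFibGrpd_fibCat h)

end Compare

section Transfer

variable {𝒜 : BasedCategory.{v₃, w₃} (Over S)} {ℬ : BasedCategory.{v'', w''} (Over S)}

/-- Transfer of generation along an equivalence. -/
theorem isGenFam_transfer {Φ : 𝒜 ⥤ᵇ ℬ} (hΦ : FibCat.IsEquivOver Φ) (a : 𝒜 ⥤ᵇ 𝒳) (b : ℬ ⥤ᵇ 𝒴) (h : 𝒳 ⥤ᵇ 𝒴)
    (e : BasedFunctor.comp Φ b ≅ BasedFunctor.comp a h) {E : ι → QCoh 𝒴}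
    (H : IsGenFam (fun i => (comapQ b).obj (E i))) :
    IsGenFam (fun i => (comapQ a).obj ((comapQ h).obj (E i))) :=
  isGenFam_congr (fun i => (comapCompIso b Φ (E i).obj).symm ≪≫ (comapCongr e (E i).obj).symm ≪≫
    comapCompIso h a (E i).obj) (isGenFam_comapQ hΦ H)

/-- Transfer of generation along an equivalence, same target. -/
theorem isGenFam_transfer' {Φ : 𝒜 ⥤ᵇ ℬ} (hΦ : FibCat.IsEquivOver Φ) (a : 𝒜 ⥤ᵇ 𝒴) (b : ℬ ⥤ᵇ 𝒴)
    (e : BasedFunctor.comp Φ b ≅ a) {E : ι → QCoh 𝒴}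
    (H : IsGenFam (fun i => (comapQ b).obj (E i))) : IsGenFam (fun i => (comapQ a).obj (E i)) :=
  isGenFam_congr (fun i => (comapCompIso b Φ (E i).obj).symm ≪≫ (comapCongr e (E i).obj).symm)
    (isGenFam_comapQ hΦ H)

end Transfer

section Rel

theorem isRelGenFam_congr (π : 𝒳 ⥤ᵇ 𝒴) {E E' : ι → QCoh 𝒳} (e : ∀ i, (E i).obj ≅ (E' i).obj)
    (h : IsRelGenFam π E) : IsRelGenFam π E' := fun η hη =>
  isGenFam_congr (fun i => (comapFunctor (fibFst π η)).mapIso (e i)) (h η hη)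

/-- Relative generation tested on the library's categories over `η`. -/
theorem isRelGenFam_iff (π : 𝒳 ⥤ᵇ 𝒴) (E : ι → QCoh 𝒳) :
    IsRelGenFam π E ↔ ∀ η : 𝒴.obj, IsAffine (sch 𝒴 η) → IsGenFam (fun i => (comapQ (K906.fibPt π η)).obj (E i)) :=
  ⟨fun h η hη => isGenFam_transfer' (isEquivOver_ofK π η) _ _ (Iso.refl _) (h η hη),
    fun h η hη => isGenFam_transfer' (isEquivOver_toK π η) _ _ (Iso.refl _) (h η hη)⟩

/-- The functor between categories over `η` induced by a 2-morphism. -/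
def fibIso {π π' : 𝒳 ⥤ᵇ 𝒴} (e : π' ≅ π) (η : 𝒴.obj) : K906.fibCat π η ⥤ᵇ K906.fibCat π' η where
  toFunctor :=
    { obj := fun x => ⟨x.pt, (isoApp e x.pt).hom ≫ x.arr⟩
      map := fun {x y} f => K906.FObj.mkHom f.hom (by
        change π'.map f.hom ≫ (isoApp e y.pt).hom ≫ y.arr = (isoApp e x.pt).hom ≫ x.arr
        rw [← Category.assoc, isoApp_nat e f.hom, Category.assoc, f.comm]) }
  w := rfl

theorem isEquivOver_fibIso {π π' : 𝒳 ⥤ᵇ 𝒴} (e : π' ≅ π) (η : 𝒴.obj) : FibCat.IsEquivOver (fibIso e η) := by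
  refine isEquivOver_of ?_ ?_ ?_
  · intro a b φ ψ h
    have e1 := congrArg (fun t => K906.FObj.Hom.hom t) h
    exact K906.FObj.hom_ext e1
  · intro a b φ
    refine ⟨K906.FObj.mkHom φ.hom ?_, K906.FObj.hom_ext rfl⟩
    have h : π'.map φ.hom ≫ (isoApp e (K906.FObj.pt b)).hom ≫ K906.FObj.arr b =
      (isoApp e (K906.FObj.pt a)).hom ≫ K906.FObj.arr a := φ.comm
    have h2 : π'.map φ.hom ≫ (isoApp e (K906.FObj.pt b)).hom =
      (isoApp e (K906.FObj.pt a)).hom ≫ π.map φ.hom := isoApp_nat e φ.hom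
    rw [← Category.assoc, h2, Category.assoc] at h
    exact (cancel_epi _).1 h
  · rintro ⟨ξ, m⟩
    refine ⟨⟨ξ, (isoApp e ξ).inv ≫ m⟩, ⟨K906.FObj.mkHom (𝟙 ξ) ?_, K906.FObj.mkHom (𝟙 ξ) ?_,
      K906.FObj.hom_ext (Category.id_comp _), K906.FObj.hom_ext (Category.id_comp _)⟩, ?_⟩
    · change π'.map (𝟙 ξ) ≫ m = (isoApp e ξ).hom ≫ (isoApp e ξ).inv ≫ m
      simp
    · change π'.map (𝟙 ξ) ≫ (isoApp e ξ).hom ≫ (isoApp e ξ).inv ≫ m = m
      simp
    · refine vert_of_map_eq rfl ?_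
      change 𝒳.p.map (𝟙 ξ) = _
      simp
      rfl

/-- Relative generation is invariant under 2-isomorphisms of the map. -/
theorem isRelGenFam_of_iso {π π' : 𝒳 ⥤ᵇ 𝒴} (e : π' ≅ π) {E : ι → QCoh 𝒳} (h : IsRelGenFam π' E) :
    IsRelGenFam π E := by
  rw [isRelGenFam_iff] at h ⊢
  exact fun η hη => isGenFam_transfer' (Φ := fibIso e η) (isEquivOver_fibIso e η) (K906.fibPt π η)
    (K906.fibPt π' η) (Iso.refl _) (h η hη)

end Rel

section BaseChange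

theorem vert_fib {π : 𝒳 ⥤ᵇ 𝒴} {η : 𝒴.obj} {a b : (K906.fibCat π η).obj} {χ : a ⟶ b} :
    Vert (K906.fibCat π η).p χ ↔ Vert 𝒳.p (K906.FObj.Hom.hom χ) := by
  rw [vert_iff, vert_iff]
  exact Iff.rfl

variable (F : 𝒳 ⥤ᵇ 𝒮) (G : 𝒴 ⥤ᵇ 𝒮)

/-- Vertical arrows lift uniquely through arrows with the same target. -/
theorem exists_vert_lift (h𝒴 : FibCat.IsFibGrpd 𝒴.p) (h𝒮 : FibCat.IsFibGrpd 𝒮.p) {y y' η : 𝒴.obj} (α : y ⟶ η)
    (α' : y' ⟶ η) (m : G.obj y' ⟶ G.obj y) (hm : Vert 𝒮.p m) (h : m ≫ G.map α = G.map α') :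
    ∃ χ : y' ⟶ y, Vert 𝒴.p χ ∧ G.map χ = m ∧ χ ≫ α = α' := by
  have e1 : 𝒴.p.obj y' = 𝒴.p.obj y := (G.w_obj y').symm.trans (hm.eq.symm.trans (G.w_obj y))
  have hbase : eqToHom e1 ≫ 𝒴.p.map α = 𝒴.p.map α' := by
    have h2 := congrArg 𝒮.p.map h
    rw [Functor.map_comp, hm.map_eq, map_map G, map_map G] at h2
    refine eqToHom_cancel (G.w_obj y') (G.w_obj η).symm ?_
    rw [← h2]
    simp
  obtain ⟨χ, hχ1, hχ2⟩ := exists_hom h𝒴 α α' (eqToHom e1) hbase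
  have hv : Vert 𝒴.p χ := vert_of_map_eq e1 hχ1
  refine ⟨χ, hv, ?_, hχ2⟩
  refine hom_ext' h𝒮 (G.map α) ?_ ?_
  · rw [(Vert.map G hv).map_eq, hm.map_eq]
  · rw [← Functor.map_comp, hχ2, h]

/-- The category over `η` of the projection `𝒳 ×_𝒮 𝒴 ⟶ 𝒴` maps to the category of `F` over `G η`. -/
def fibFp (η : 𝒴.obj) : K906.fibCat (FibCat.fpSnd F G) η ⥤ᵇ K906.fibCat F (G.obj η) where
  toFunctor :=
    { obj := fun x => ⟨x.pt.obj.fst, x.pt.obj.iso.hom ≫ G.map x.arr⟩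
      map := fun {x y} f => K906.FObj.mkHom f.hom.hom.fst (by
        change F.map f.hom.hom.fst ≫ y.pt.obj.iso.hom ≫ G.map y.arr = x.pt.obj.iso.hom ≫ G.map x.arr
        rw [← Category.assoc, fp_w f.hom, Category.assoc, ← Functor.map_comp]
        exact congrArg (fun t => x.pt.obj.iso.hom ≫ G.map t) f.comm) }
  w := rfl

theorem isEquivOver_fibFp (h𝒳 : FibCat.IsFibGrpd 𝒳.p) (h𝒴 : FibCat.IsFibGrpd 𝒴.p) (h𝒮 : FibCat.IsFibGrpd 𝒮.p)
    (η : 𝒴.obj) : FibCat.IsEquivOver (fibFp F G η) := by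
  have hfp := isFibGrpd_fp h𝒳 h𝒴 h𝒮 F G
  refine isEquivOver_of_vert (K906.isFibGrpd_fibCat hfp) (K906.isFibGrpd_fibCat h𝒳) ?_ ?_ ?_
  · intro a b φ ψ hφ hψ h
    have e1 : φ.hom.hom.fst = ψ.hom.hom.fst := congrArg (fun t => K906.FObj.Hom.hom t) h
    refine K906.FObj.hom_ext (fp_hom_ext e1 ?_)
    have hv : ∀ χ : a ⟶ b, Vert (K906.fibCat (FibCat.fpSnd F G) η).p χ → Vert 𝒴.p χ.hom.hom.snd :=
      fun χ hχ => (vert_fp_iff_snd χ.hom).1 (vert_fib.1 hχ)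
    refine hom_ext' h𝒴 b.arr ?_ ?_
    · rw [(hv φ hφ).map_eq, (hv ψ hψ).map_eq]
    · exact φ.comm.trans ψ.comm.symm
  · intro a b φ hφ
    have h1 : Vert 𝒳.p φ.hom := vert_fib.1 hφ
    have hcomm : F.map φ.hom ≫ b.pt.obj.iso.hom ≫ G.map b.arr = a.pt.obj.iso.hom ≫ G.map a.arr := φ.comm
    obtain ⟨χ, hχ1, hχ2, hχ3⟩ := exists_vert_lift G h𝒴 h𝒮 (y := b.pt.obj.snd) (y' := a.pt.obj.snd) b.arr a.arr
      (a.pt.obj.iso.inv ≫ F.map φ.hom ≫ b.pt.obj.iso.hom)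
      ((Vert.iso_inv (fp_vert a.pt)).comp ((Vert.map F h1).comp (fp_vert b.pt))) (by
        rw [Category.assoc, Category.assoc, hcomm, Iso.inv_hom_id_assoc])
    refine ⟨K906.FObj.mkHom (homFp φ.hom χ ?_) hχ3, K906.FObj.hom_ext rfl⟩
    rw [hχ2, Iso.hom_inv_id_assoc]
  · rintro ⟨ξ, β⟩
    obtain ⟨y, i, hi, α, hα⟩ := K906.Comap.exists_arrF F G h𝒮 h𝒴 ξ β
    refine ⟨⟨mkFp F G ξ y i.symm (Vert.iso_inv (φ := i) hi), α⟩, K906.FObj.mkHom (𝟙 ξ) ?_, ?_⟩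
    · change F.map (𝟙 ξ) ≫ β = i.inv ≫ G.map α
      rw [← hα, CategoryTheory.Functor.map_id, Category.id_comp]
      rfl
    · exact vert_fib.2 (vert_id ξ)

/-- Relative generation is stable under base change (second projection). -/
theorem isRelGenFam_fpSnd (h𝒳 : FibCat.IsFibGrpd 𝒳.p) (h𝒴 : FibCat.IsFibGrpd 𝒴.p) (h𝒮 : FibCat.IsFibGrpd 𝒮.p)
    {E : ι → QCoh 𝒳} (h : IsRelGenFam F E) :
    IsRelGenFam (FibCat.fpSnd F G) (fun i => (comapQ (FibCat.fpFst F G)).obj (E i)) := by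
  rw [isRelGenFam_iff] at h ⊢
  intro η hη
  have hη' : IsAffine (sch 𝒮 (G.obj η)) := by rw [sch_obj_eq]; exact hη
  exact isGenFam_transfer (isEquivOver_fibFp F G h𝒳 h𝒴 h𝒮 η) _ _ _ (Iso.refl _) (h _ hη')

end BaseChange

section PreEquiv

variable {𝒳' : BasedCategory.{v₃, w₃} (Over S)} (e : 𝒳' ⥤ᵇ 𝒳) (π : 𝒳 ⥤ᵇ 𝒴)

/-- The category over `η` of `e ⋙ π` maps to that of `π`. -/
def fibPre (η : 𝒴.obj) : K906.fibCat (BasedFunctor.comp e π) η ⥤ᵇ K906.fibCat π η where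
  toFunctor :=
    { obj := fun x => ⟨e.obj x.pt, x.arr⟩
      map := fun {x y} m => K906.FObj.mkHom (e.map m.hom) m.comm
      map_id := fun x => K906.FObj.hom_ext (e.map_id x.pt)
      map_comp := fun m n => K906.FObj.hom_ext (e.map_comp m.hom n.hom) }
  w := by
    apply CategoryTheory.Functor.ext
    intro x y m
    exact Functor.congr_hom e.w m.hom

theorem isEquivOver_fibPre (he : FibCat.IsEquivOver e) (η : 𝒴.obj) : FibCat.IsEquivOver (fibPre e π η) := by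
  refine isEquivOver_of ?_ ?_ ?_
  · intro a b φ ψ h
    exact K906.FObj.hom_ext (IsEquivOver.faithful he (congrArg (fun t => K906.FObj.Hom.hom t) h))
  · intro a b φ
    obtain ⟨m, hm⟩ := IsEquivOver.full he φ.hom
    refine ⟨K906.FObj.mkHom m ?_, K906.FObj.hom_ext hm⟩
    change π.map (e.map m) ≫ b.arr = a.arr
    rw [hm]
    exact φ.comm
  · rintro ⟨ξ, α⟩
    obtain ⟨x, i, hi⟩ := IsEquivOver.essSurj he ξ
    refine ⟨⟨x, π.map i.hom ≫ α⟩, ⟨K906.FObj.mkHom i.hom rfl, K906.FObj.mkHom i.inv ?_,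
      K906.FObj.hom_ext i.hom_inv_id, K906.FObj.hom_ext i.inv_hom_id⟩, vert_fib.2 hi⟩
    change π.map i.inv ≫ π.map i.hom ≫ α = α
    rw [← Functor.map_comp_assoc, i.inv_hom_id, CategoryTheory.Functor.map_id, Category.id_comp]

/-- Relative generation and composition with an equivalence on the source. -/
theorem isRelGenFam_pre (he : FibCat.IsEquivOver e) {E : ι → QCoh 𝒳} (h : IsRelGenFam π E) :
    IsRelGenFam (BasedFunctor.comp e π) (fun i => (comapQ e).obj (E i)) := by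
  rw [isRelGenFam_iff] at h ⊢
  exact fun η hη => isGenFam_transfer (isEquivOver_fibPre e π he η) (K906.fibPt (BasedFunctor.comp e π) η)
    (K906.fibPt π η) e (Iso.refl _) (h η hη)

/-- Relative generation is stable under base change (first projection). -/
theorem isRelGenFam_fpFst (F : 𝒳 ⥤ᵇ 𝒮) (G : 𝒴 ⥤ᵇ 𝒮) (h𝒳 : FibCat.IsFibGrpd 𝒳.p) (h𝒴 : FibCat.IsFibGrpd 𝒴.p)
    (h𝒮 : FibCat.IsFibGrpd 𝒮.p) {E : ι → QCoh 𝒳} (h : IsRelGenFam F E) :
    IsRelGenFam (FibCat.fpFst G F) (fun i => (comapQ (FibCat.fpSnd G F)).obj (E i)) := by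
  have h1 := isRelGenFam_pre (fpSwap G F) (FibCat.fpSnd F G) (isEquivOver_fpSwap G F)
    (isRelGenFam_fpSnd F G h𝒳 h𝒴 h𝒮 h)
  exact isRelGenFam_congr (FibCat.fpFst G F) (fun i => (comapCompIso (FibCat.fpFst F G) (fpSwap G F) (E i).obj).symm) h1

end PreEquiv

section Graph

variable {𝒵 : BasedCategory.{v₃, w₃} (Over S)} (f : 𝒳 ⥤ᵇ 𝒴) (g : 𝒴 ⥤ᵇ 𝒵)

/-- The graph of `f` over `𝒵`, with values in `𝒴 ×_𝒵 𝒳`. -/
def graph : 𝒳 ⥤ᵇ FibCat.fp g (BasedFunctor.comp f g) :=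
  FibCat.fpLift f (BasedFunctor.id 𝒳) (Iso.refl _)

/-- `1 × f : 𝒴 ×_𝒵 𝒳 ⟶ 𝒴 ×_𝒵 𝒴`. -/
def fProd : FibCat.fp g (BasedFunctor.comp f g) ⥤ᵇ FibCat.fp g g :=
  FibCat.fpLift (FibCat.fpFst g (BasedFunctor.comp f g))
    (BasedFunctor.comp (FibCat.fpSnd g (BasedFunctor.comp f g)) f) (FibCat.fpIso g (BasedFunctor.comp f g))

theorem graph_fst : BasedFunctor.comp (graph f g) (FibCat.fpFst g (BasedFunctor.comp f g)) = f := rfl

theorem graph_snd : BasedFunctor.comp (graph f g) (FibCat.fpSnd g (BasedFunctor.comp f g)) = BasedFunctor.id 𝒳 := rfl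

/-- The category over `ζ` of the graph maps to the category over `(1 × f) ζ` of the diagonal. -/
def fibGraph (ζ : (FibCat.fp g (BasedFunctor.comp f g)).obj) :
    K906.fibCat (graph f g) ζ ⥤ᵇ K906.fibCat (FibCat.diag g) ((fProd f g).obj ζ) where
  toFunctor :=
    { obj := fun x => ⟨f.obj x.pt, (homFp x.arr.hom.fst (f.map x.arr.hom.snd) (fp_w x.arr) :
        (FibCat.diag g).obj (f.obj x.pt) ⟶ (fProd f g).obj ζ)⟩
      map := fun {x y} m => K906.FObj.mkHom (f.map m.hom) (by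
        refine fp_hom_ext ?_ ?_
        · change f.map m.hom ≫ y.arr.hom.fst = x.arr.hom.fst
          exact congrArg (fun t => t.hom.fst) m.comm
        · change f.map m.hom ≫ f.map y.arr.hom.snd = f.map x.arr.hom.snd
          rw [← Functor.map_comp]
          exact congrArg (fun t => f.map t) (congrArg (fun t => t.hom.snd) m.comm))
      map_id := fun x => K906.FObj.hom_ext (f.map_id x.pt)
      map_comp := fun m n => K906.FObj.hom_ext (f.map_comp m.hom n.hom) }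
  w := by
    apply CategoryTheory.Functor.ext
    intro x y m
    exact Functor.congr_hom f.w m.hom

theorem isEquivOver_fibGraph (h𝒳 : FibCat.IsFibGrpd 𝒳.p) (h𝒴 : FibCat.IsFibGrpd 𝒴.p)
    (ζ : (FibCat.fp g (BasedFunctor.comp f g)).obj) : FibCat.IsEquivOver (fibGraph f g ζ) := by
  refine isEquivOver_of_vert (K906.isFibGrpd_fibCat h𝒳) (K906.isFibGrpd_fibCat h𝒴) ?_ ?_ ?_
  · intro a b φ ψ hφ hψ h
    refine K906.FObj.hom_ext (hom_ext' h𝒳 b.arr.hom.snd ?_ ?_)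
    · rw [(vert_fib.1 hφ).map_eq, (vert_fib.1 hψ).map_eq]
    · exact (congrArg (fun t => t.hom.snd) φ.comm).trans (congrArg (fun t => t.hom.snd) ψ.comm).symm
  · intro a b φ hφ
    have h1 : Vert 𝒴.p φ.hom := vert_fib.1 hφ
    have c1 : φ.hom ≫ b.arr.hom.fst = a.arr.hom.fst := congrArg (fun t => t.hom.fst) φ.comm
    have c2 : φ.hom ≫ f.map b.arr.hom.snd = f.map a.arr.hom.snd := congrArg (fun t => t.hom.snd) φ.comm
    obtain ⟨χ, hχ1, hχ2, hχ3⟩ := exists_vert_lift f h𝒳 h𝒴 (y := b.pt) (y' := a.pt) b.arr.hom.snd a.arr.hom.snd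
      φ.hom h1 c2
    refine ⟨K906.FObj.mkHom χ (fp_hom_ext ?_ hχ3), K906.FObj.hom_ext hχ2⟩
    change f.map χ ≫ b.arr.hom.fst = a.arr.hom.fst
    rw [hχ2, c1]
  · rintro ⟨y, β⟩
    have hw : g.map β.hom.fst ≫ ζ.obj.iso.hom = 𝟙 (g.obj y) ≫ g.map β.hom.snd := fp_w β
    obtain ⟨x, a, e', ha⟩ := exists_lift_eq h𝒳 (x := ζ.obj.snd) (f.w_obj ζ.obj.snd).symm (𝒴.p.map β.hom.snd)
    have e1 : 𝒴.p.obj (f.obj x) = 𝒴.p.obj y := (f.w_obj x).trans e'
    obtain ⟨i, hi1, hi2⟩ := exists_hom h𝒴 β.hom.snd (f.map a) (eqToHom e1) (by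
      rw [map_map f, ha]
      simp only [Category.assoc, eqToHom_trans_assoc, eqToHom_trans, eqToHom_refl, Category.comp_id])
    have hi : Vert 𝒴.p i := vert_of_map_eq e1 hi1
    refine ⟨⟨x, homFp (i ≫ β.hom.fst) a ?_⟩, K906.FObj.mkHom i (fp_hom_ext rfl hi2), vert_fib.2 hi⟩
    change g.map (i ≫ β.hom.fst) ≫ ζ.obj.iso.hom = 𝟙 (g.obj (f.obj x)) ≫ g.map (f.map a)
    rw [← hi2, Category.id_comp, Functor.map_comp, Functor.map_comp, Category.assoc, hw, Category.id_comp]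

/-- If the structure sheaf of `𝒴` is generating relative to the diagonal of `g` then that of `𝒳` is generating relative
to the graph of `f` over `𝒵`. -/
theorem isRelGenFam_graph (h𝒳 : FibCat.IsFibGrpd 𝒳.p) (h𝒴 : FibCat.IsFibGrpd 𝒴.p)
    (h : IsRelGenFam (FibCat.diag g) (fun _ : ι => OQ 𝒴)) : IsRelGenFam (graph f g) (fun _ : ι => OQ 𝒳) := by
  rw [isRelGenFam_iff] at h ⊢
  intro ζ hζ
  have hζ' : IsAffine (sch (FibCat.fp g g) ((fProd f g).obj ζ)) := by rw [sch_obj_eq]; exact hζ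
  have h1 := isGenFam_transfer (isEquivOver_fibGraph f g h𝒳 h𝒴 ζ) (K906.fibPt (graph f g) ζ) _ f (Iso.refl _)
    (h ((fProd f g).obj ζ) hζ')
  exact isGenFam_congr (fun _ => (comapFunctor (K906.fibPt (graph f g) ζ)).mapIso (comapOIso f)) h1

/-- Cancellation, with the composition statement as an input. -/
theorem isRelGenFam_of_comp (h𝒳 : FibCat.IsFibGrpd 𝒳.p) (h𝒴 : FibCat.IsFibGrpd 𝒴.p) (h𝒵 : FibCat.IsFibGrpd 𝒵.p)
    {κ : Type t} {E : ι → QCoh 𝒳} (hO : IsRelGenFam (FibCat.diag g) (fun _ : κ => OQ 𝒴))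
    (hE : IsRelGenFam (BasedFunctor.comp f g) E)
    (hcomp : IsRelGenFam (graph f g) (fun _ : κ => OQ 𝒳) →
      IsRelGenFam (FibCat.fpFst g (BasedFunctor.comp f g))
        (fun i => (comapQ (FibCat.fpSnd g (BasedFunctor.comp f g))).obj (E i)) →
      IsRelGenFam (BasedFunctor.comp (graph f g) (FibCat.fpFst g (BasedFunctor.comp f g)))
        (fun i => (comapQ (graph f g)).obj ((comapQ (FibCat.fpSnd g (BasedFunctor.comp f g))).obj (E i)))) :
    IsRelGenFam f E :=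
  isRelGenFam_congr f (fun i => (comapCompIso (FibCat.fpSnd g (BasedFunctor.comp f g)) (graph f g) (E i).obj).symm ≪≫
    comapIdIso (E i).obj) (hcomp (isRelGenFam_graph f g h𝒳 h𝒴 hO) (isRelGenFam_fpFst _ _ h𝒳 h𝒴 h𝒵 hE))

end Graph

end K90.RelGen
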